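import Mathlib
import Groth.Agent.Lib.Helper2.TorBalApps

namespace Groth.Agent.H5.FlatRes

open CategoryTheory CategoryTheory.Limits Category ChainComplex HomologicalComplex MonoidalCategory
open Groth.Agent.H2.TorBal

universe u

variable {R : Type u} [CommRing R]

section Res

variable {F : ChainComplex (ModuleCat.{u} R) ℕ} {M : ModuleCat.{u} R}
  (φ : F ⟶ (ChainComplex.single₀ (ModuleCat.{u} R)).obj M)

lemma complex_exactAt_succ [QuasiIso φ] (n : ℕ) : F.ExactAt (n + 1) := by
  rw [← quasiIsoAt_iff_exactAt' φ (n + 1) (exactAt_succ_single_obj _ _)]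
  infer_instance

lemma exact_succ [QuasiIso φ] (n : ℕ) :
    (ShortComplex.mk _ _ (F.d_comp_d (n + 2) (n + 1) n)).Exact :=
  ((HomologicalComplex.exactAt_iff' _ (n + 2) (n + 1) n) (by simp only [ChainComplex.prev]; rfl)
    (by simp)).1 (complex_exactAt_succ φ n)

@[reassoc]
theorem d_comp_f_zero : F.d 1 0 ≫ φ.f 0 = 0 := by
  rw [← φ.comm 1 0, single_obj_d, comp_zero]

set_option backward.isDefEq.respectTransparency.types false in
set_option backward.defeqAttrib.useBackward true in
/-- `M` is the cokernel of `F₁ ⟶ F₀`. -/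
noncomputable def isColimitCokernelCofork [QuasiIso φ] :
    IsColimit (CokernelCofork.ofπ (φ.f 0) (d_comp_f_zero φ)) := by
  refine IsColimit.ofIsoColimit (F.opcyclesIsCokernel 1 0 (by simp)) ?_
  refine Cofork.ext (F.isoHomologyι₀.symm ≪≫ isoOfQuasiIsoAt φ 0 ≪≫
    singleObjHomologySelfIso _ _ _) ?_
  rw [← cancel_mono (singleObjHomologySelfIso (ComplexShape.down ℕ) 0 _).inv,
    ← cancel_mono (isoHomologyι₀ _).hom]
  dsimp
  simp only [isoHomologyι₀_inv_naturality_assoc, p_opcyclesMap_assoc, single₀_obj_zero, assoc,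
    Iso.hom_inv_id, comp_id, isoHomologyι_inv_hom_id, singleObjHomologySelfIso_inv_homologyι,
    singleObjOpcyclesSelfIso_hom, single₀ObjXSelf, Iso.refl_inv, id_comp]

end Res

end Groth.Agent.H5.FlatRes
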