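import Mathlib
import Groth.Agent.Lib.Helper2.TorBalApps
import Groth.Agent.Lib.Helper5.FlatRes.A

namespace Groth.Agent.H5.FlatRes

open CategoryTheory CategoryTheory.Limits Category ChainComplex HomologicalComplex MonoidalCategory
open Groth.Agent.H2.TorBal

universe u

variable {R : Type u} [CommRing R]

variable {F : ChainComplex (ModuleCat.{u} R) ℕ} {M : ModuleCat.{u} R}
  (φ : F ⟶ (ChainComplex.single₀ (ModuleCat.{u} R)).obj M)

/-- the augmentation `F₀ ⟶ M`. -/
def aug : F.X 0 ⟶ M := φ.f 0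

lemma d_comp_aug : F.d 1 0 ≫ aug φ = 0 := d_comp_f_zero φ

/-- the canonical map `coker (X ⊗ F₁ ⟶ X ⊗ F₀) ⟶ X ⊗ M`. -/
noncomputable def fromOpc (X : ModuleCat.{u} R) :
    ((tensorCx F).obj X).opcycles 0 ⟶ X ⊗ M :=
  HomologicalComplex.descOpcycles _ (X ◁ aug φ) 1 (by simp) (by
    dsimp
    rw [← MonoidalCategory.whiskerLeft_comp, d_comp_aug φ]
    exact MonoidalPreadditive.whiskerLeft_zero)

@[reassoc (attr := simp)]
lemma p_fromOpc (X : ModuleCat.{u} R) :
    HomologicalComplex.pOpcycles _ _ ≫ fromOpc φ X = X ◁ aug φ :=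
  HomologicalComplex.p_descOpcycles _ _ _ _ _

instance [QuasiIso φ] (X : ModuleCat.{u} R) : IsIso (fromOpc φ X) := by
  dsimp [fromOpc]
  rw [ChainComplex.isIso_descOpcycles_iff, ShortComplex.exact_and_epi_g_iff_g_is_cokernel]
  exact ⟨CokernelCofork.mapIsColimit _ (isColimitCokernelCofork φ) (tensorLeft X)⟩

/-- `H₀(X ⊗ F) ≅ X ⊗ M`. -/
noncomputable def zeroIso [QuasiIso φ] (X : ModuleCat.{u} R) :
    ((tensorCx F).obj X).homology 0 ≅ X ⊗ M :=
  (ChainComplex.isoHomologyι₀ ((tensorCx F).obj X)) ≪≫ asIso (fromOpc φ X)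

lemma zeroIso_hom [QuasiIso φ] (X : ModuleCat.{u} R) :
    (zeroIso φ X).hom = ((tensorCx F).obj X).homologyι 0 ≫ fromOpc φ X := rfl

lemma zeroIso_hom_naturality [QuasiIso φ] {X Y : ModuleCat.{u} R} (f : X ⟶ Y) :
    HomologicalComplex.homologyMap ((tensorCx F).map f) 0 ≫ (zeroIso φ Y).hom =
      (zeroIso φ X).hom ≫ f ▷ M := by
  rw [zeroIso_hom, zeroIso_hom, HomologicalComplex.homologyι_naturality_assoc, assoc]
  congr 1
  rw [← cancel_epi (HomologicalComplex.pOpcycles _ _), HomologicalComplex.p_opcyclesMap_assoc]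
  have h1 := p_fromOpc φ X
  have h2 := p_fromOpc φ Y
  exact (congrArg (f ▷ F.X 0 ≫ ·) h2).trans ((whisker_exchange f (aug φ)).symm.trans
    ((congrArg (· ≫ f ▷ M) h1.symm).trans (assoc _ _ _)))

/-- `H₀ ∘ (- ⊗ F) ≅ - ⊗ M`. -/
noncomputable def zeroNatIso [QuasiIso φ] :
    tensorCx F ⋙ HomologicalComplex.homologyFunctor (ModuleCat.{u} R) _ 0 ≅ tensorRight M :=
  NatIso.ofComponents (fun X => zeroIso φ X)
    (fun f => zeroIso_hom_naturality φ f)

lemma isZero_homology_succ [QuasiIso φ] (X : ModuleCat.{u} R) [Module.Flat R X] (n : ℕ) :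
    IsZero (((tensorCx F).obj X).homology (n + 1)) := by
  rw [← HomologicalComplex.exactAt_iff_isZero_homology]
  rw [HomologicalComplex.exactAt_iff' _ (n + 2) (n + 1) n
    (by simp only [ChainComplex.prev]; rfl) (by simp)]
  exact Module.Flat.lTensor_shortComplex_exact X _ (exact_succ φ n)

/-- The `δ`-functor data of `X ↦ X ⊗ F` for a flat resolution `F` of `M`. -/
noncomputable def deltaData [QuasiIso φ] (hF : ∀ i, Module.Flat R (F.X i)) :
    DeltaData (tensorCx F) (tensorRight M) where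
  shortExact S hS := tensorCx_shortExact _ hF S hS
  isZero_proj X hX n := by
    haveI := hX
    haveI := flat_of_projective X
    exact isZero_homology_succ φ X n
  e := zeroNatIso φ

/-- A flat resolution computes Tor. -/
theorem nonempty_homology_iso_tor' [QuasiIso φ] (hF : ∀ i, Module.Flat R (F.X i))
    (N : ModuleCat.{u} R) (n : ℕ) :
    Nonempty ((((tensorRight N).mapHomologicalComplex (ComplexShape.down ℕ)).obj F).homology n ≅
      ((Tor' (ModuleCat.{u} R) n).obj M).obj N) := by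
  -- braiding
  let k := (HomologicalComplex.homologyFunctor (ModuleCat.{u} R) (ComplexShape.down ℕ) n).mapIso
    ((NatIso.mapHomologicalComplex (BraidedCategory.tensorLeftIsoTensorRight N)
      (ComplexShape.down ℕ)).app F)
  -- balancing with projective resolution of N
  obtain ⟨i⟩ := (deltaData φ hF).nonempty_iso n (projectiveResolution N)
  -- H_n(P_N ⊗ M) ≅ Tor'_n(N, M)
  let j := (projectiveResolution N).isoLeftDerivedObj (tensorRight M) n
  -- Tor'_n(N,M) ≅ Tor_n(N,M)
  obtain ⟨a⟩ := nonempty_tor_iso N M (projectiveResolution N) n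
  obtain ⟨b⟩ := nonempty_tor_symm N M n
  obtain ⟨c⟩ := nonempty_tor_iso M N (projectiveResolution M) n
  let j' := (projectiveResolution M).isoLeftDerivedObj (tensorRight N) n
  exact ⟨k.symm ≪≫ i ≪≫ a.symm ≪≫ b ≪≫ c ≪≫ j'.symm⟩

end Groth.Agent.H5.FlatRes
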